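import Groth.Agent.Lib.CurvQuot9.Main
import Groth.Agent.Lib.QuotAvg9.Proper
import Groth.Agent.Lib.FibreFlat.Fibrewise
import Mathlib.AlgebraicGeometry.Morphisms.SmoothFiber

/-!
# Quotient of a family of smooth proper curves by a finite group of invertible order
-/

set_option autoImplicit false
set_option linter.all false
set_option backward.isDefEq.respectTransparency false

universe u

open CategoryTheory CategoryTheory.Limits AlgebraicGeometry TopologicalSpace

namespace GrothLib.CurvQuot9

theorem topologicalKrullDim_eq_of_iso {A B : Scheme.{u}} (e : A ≅ B) :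
    topologicalKrullDim A = topologicalKrullDim B :=
  le_antisymm e.hom.homeomorph.isEmbedding.isInducing.topologicalKrullDim_le
    e.hom.homeomorph.symm.isEmbedding.isInducing.topologicalKrullDim_le

variable {X Y S : Scheme.{u}} {G : Type u} [Group G] [Finite G] {ρ : G →* Aut X} {π : X ⟶ Y}

/-- A point moved by `a` is moved in every base change containing it. -/
theorem bcAction_ne_one (hinv : ∀ g : G, (ρ g).hom ≫ π = π) {Y' : Scheme.{u}} (qY : Y' ⟶ Y) {a : G}
    {x : X} (hx : π x ∈ Set.range qY) (ha : (ρ a).hom x ≠ x) : bcAction hinv qY a ≠ 1 := by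
  intro h
  obtain ⟨y', hy'⟩ := hx
  obtain ⟨z, hz, -⟩ := Scheme.Pullback.exists_preimage_pullback (f := π) (g := qY) x y' hy'.symm
  apply ha
  have h1 : (bcAction hinv qY a).hom ≫ pullback.fst π qY = pullback.fst π qY := by rw [h]; exact Category.id_comp _
  have h2 : (bcAction hinv qY a).hom ≫ pullback.fst π qY = pullback.fst π qY ≫ (ρ a).hom :=
    pullback.lift_fst _ _ _
  rw [← hz, ← Scheme.Hom.comp_apply, ← h2, h1]

theorem family_quotient (f : X ⟶ S) [IsProper f] [Smooth f] [GeometricallyConnected f]
    (hdim : ∀ s : S, topologicalKrullDim ↥(f.fiber s) = 1)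
    (hG : IsUnit ((Nat.card G : ℕ) : Γ(S, ⊤))) (q : Y ⟶ S) (hπ : π ≫ q = f) (hquot : SGA1.IsQuot ρ π)
    (hfib : ∀ s : S, Function.Injective (bcAction hquot.inv (q.fiberι s))) :
    IsProper q ∧ Smooth q ∧ GeometricallyConnected q ∧ (∀ s : S, topologicalKrullDim ↥(q.fiber s) = 1) ∧
      IsFinite π ∧ Flat π ∧ LocallyOfFinitePresentation π ∧ ∀ y : Y, π.finrank y = Nat.card G := by
  haveI : IsProper (π ≫ q) := by rw [hπ]; infer_instance
  haveI : Flat (π ≫ q) := by rw [hπ]; infer_instance
  haveI : LocallyOfFinitePresentation (π ≫ q) := by rw [hπ]; infer_instance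
  obtain ⟨hq, hqp, hπp⟩ := GrothLib.QuotAvg9.proper_package hquot f q hπ hG
  have hu := GrothLib.QuotAvg9.isUnit_card_target hquot q hG
  haveI : Flat q := GrothLib.QuotAvg9.flat_of_comp hquot q hu
  haveI := hq; haveI := hqp; haveI := hπp
  haveI hfin : IsFinite π := GrothLib.SGA1Quot21.isFinite_of_locallyOfFiniteType hquot q
  -- the fibres
  have main : ∀ s : S, Smooth (q.fiberToSpecResidueField s) ∧
      GeometricallyConnected (q.fiberToSpecResidueField s) ∧ topologicalKrullDim ↥(q.fiber s) = 1 ∧
      Flat (pullback.snd π (q.fiberι s)) ∧ ∀ y, (pullback.snd π (q.fiberι s)).finrank y = Nat.card G := by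
    intro s
    have hq' : SGA1.IsQuot (bcAction hquot.inv (q.fiberι s)) (pullback.snd π (q.fiberι s)) :=
      GrothLib.QuotAvg9.isQuot_baseChange hu hquot (IsPullback.of_hasPullback π _)
        (fun g => pullback.lift_snd _ _ _) (fun g => pullback.lift_fst _ _ _)
    have hbig : IsPullback (pullback.fst π (q.fiberι s))
        (pullback.snd π (q.fiberι s) ≫ q.fiberToSpecResidueField s) f (S.fromSpecResidueField s) :=
      hπ ▸ (IsPullback.of_hasPullback π (q.fiberι s)).paste_vert (IsPullback.of_hasPullback q _)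
    haveI := MorphismProperty.of_isPullback (P := @IsProper) hbig inferInstance
    haveI := MorphismProperty.of_isPullback (P := @Smooth) hbig inferInstance
    haveI := MorphismProperty.of_isPullback (P := @GeometricallyConnected) hbig inferInstance
    have hdimX : topologicalKrullDim ↥(pullback π (q.fiberι s)) = 1 :=
      (topologicalKrullDim_eq_of_iso hbig.isoPullback).trans (hdim s)
    obtain ⟨-, h2, h3, h4, -, h6, h7⟩ := quotient_curve (k := S.residueField s)
      (pullback.snd π (q.fiberι s) ≫ q.fiberToSpecResidueField s) hdimX (bcAction hquot.inv (q.fiberι s))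
      (hfib s) (fun g => by rw [← Category.assoc, hq'.inv g]) _ _ rfl hq'
    exact ⟨h2, h3, h4, h6, h7⟩
  haveI hfl : Flat π := GrothLib.FibreFlat.flat_of_fibrewise' π q fun s => (main s).2.2.2.1
  refine ⟨hq, Smooth.of_smooth_fiberToSpecResidueField q fun s => (main s).1,
    (GeometricallyConnected.iff_geometricallyConnected_fiber q).2 fun s => (main s).2.1, fun s => (main s).2.2.1,
    hfin, hfl, hπp, fun y => ?_⟩
  obtain ⟨y', hy'⟩ : y ∈ Set.range (q.fiberι (q y)) := by
    rw [q.range_fiberι]; exact rfl
  have := Scheme.Hom.finrank_of_isPullback _ _ π (q.fiberι (q y)) (IsPullback.of_hasPullback π _) y'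
  rw [hy', (main (q y)).2.2.2.2 y'] at this
  exact this.symm

end GrothLib.CurvQuot9
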