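import Groth.Agent.Lib.CurvQuot9.Family
import Groth.Agent.Lib.CurveMult.BaseChangeH
import Groth.Prelude.Def_CurvBase

/-!
# Involutions of a family of curves with rational quotient
-/

set_option autoImplicit false
set_option linter.all false
set_option backward.isDefEq.respectTransparency false

universe u

open CategoryTheory CategoryTheory.Limits AlgebraicGeometry TopologicalSpace

namespace GrothLib.CurvQuot9

theorem isIso_of_affineHom_of_bijective {W X : Scheme.{u}} (m : W ⟶ X) [IsAffineHom m]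
    (hb : ∀ U : X.Opens, Function.Bijective (m.app U)) : IsIso m := by
  refine (IsZariskiLocalAtTarget.iff_of_iSup_eq_top (P := MorphismProperty.isomorphisms Scheme.{u})
    (fun V : X.affineOpens => V.1) (iSup_affineOpens_eq_top X)).mpr fun V => ?_
  show IsIso (m ∣_ V.1)
  haveI : IsAffine V.1.toScheme := V.2
  haveI : IsAffine (m ⁻¹ᵁ V.1).toScheme := V.2.preimage m
  haveI : IsIso (m ∣_ V.1).appTop := by
    rw [morphismRestrict_appTop]
    haveI : IsIso (m.app (V.1.ι ''ᵁ ⊤)) := (ConcreteCategory.isIso_iff_bijective _).2 (hb _)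
    infer_instance
  exact (MorphismProperty.isomorphisms Scheme.{u}).arrow_mk_iso_iff (arrowIsoSpecΓOfIsAffine (m ∣_ V.1)) |>.2
    (inferInstanceAs (IsIso (Spec.map (m ∣_ V.1).appTop)))

/-- The quotient by a trivial action is an isomorphism. -/
theorem isIso_of_trivial {X Y : Scheme.{u}} {G : Type u} [Group G] {ρ : G →* Aut X} {p : X ⟶ Y}
    (hp : SGA1.IsQuot ρ p) (h : ∀ g, ρ g = 1) : IsIso p := by
  haveI := hp.affine
  refine isIso_of_affineHom_of_bijective p fun U => ⟨hp.injective U, fun s => (hp.range_iff U s).2 fun g => ?_⟩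
  rw [GrothLib.SGA1Quot21.appLE_congr_hom (show (ρ g).hom = 𝟙 X by rw [h g]; rfl)]
  simp only [Scheme.Hom.appLE, Scheme.Hom.id_app, Category.id_comp]
  exact congrArg (fun j : Γ(X, p ⁻¹ᵁ U) ⟶ Γ(X, p ⁻¹ᵁ U) => j.hom s) (X.presheaf.map_id _)

theorem genus_of_iso {k : Type u} [Field k] {A B : Scheme.{u}} (a : A ⟶ Spec (CommRingCat.of k))
    (b : B ⟶ Spec (CommRingCat.of k)) [IsSeparated b] [QuasiCompact b] (e : A ≅ B) (he : e.hom ≫ b = a) :
    (letI : A.Over (Spec (CommRingCat.of k)) := ⟨a⟩; Curv2.genus k A) =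
      (letI : B.Over (Spec (CommRingCat.of k)) := ⟨b⟩; Curv2.genus k B) := by
  letI : A.Over (Spec (CommRingCat.of k)) := ⟨a⟩
  letI : B.Over (Spec (CommRingCat.of k)) := ⟨b⟩
  haveI : IsSeparated (B ↘ Spec (CommRingCat.of k)) := ‹IsSeparated b›
  haveI : QuasiCompact (B ↘ Spec (CommRingCat.of k)) := ‹QuasiCompact b›
  refine GrothLib.CurveMult.finrank_HH_structure_baseChange (RingHom.id k) e.hom ?_ 1
  have : Spec.map (CommRingCat.ofHom (RingHom.id k)) = 𝟙 _ := Spec.map_id _
  rw [this]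
  exact IsPullback.of_horiz_isIso ⟨he.trans (Category.comp_id a).symm⟩

theorem exists_cover_of_involution {X S : Scheme.{u}} (f : X ⟶ S)
    (h2 : IsUnit (2 : Γ(S, ⊤))) [IsProper f] [Smooth f] [GeometricallyConnected f]
    (hdim : ∀ s : S, topologicalKrullDim ↥(f.fiber s) = 1) (g : ℕ) (hg : 2 ≤ g)
    (hgen : ∀ s : S, letI : (f.fiber s).Over (Spec (S.residueField s)) := ⟨f.fiberToSpecResidueField s⟩
      Curv2.genus (S.residueField s) (f.fiber s) = g)
    (σ : Aut X) (P : Scheme.{u}) (π : X ⟶ P) (q : P ⟶ S) (hσ2 : σ * σ = 1) (hπ : π ≫ q = f)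
    (hquot : SGA1.IsQuot (Subgroup.zpowers σ).subtype π) [IsProper q]
    (hgenq : ∀ s : S, letI : (q.fiber s).Over (Spec (S.residueField s)) := ⟨q.fiberToSpecResidueField s⟩
      Curv2.genus (S.residueField s) (q.fiber s) = 0) :
    IsFinite π ∧ Flat π ∧ LocallyOfFinitePresentation π ∧ ∀ y : P, π.finrank y = 2 := by
  have hfo : IsOfFinOrder σ := isOfFinOrder_iff_pow_eq_one.2 ⟨2, two_pos, (pow_two σ).trans hσ2⟩
  haveI : Finite (Subgroup.zpowers σ) := hfo.finite_zpowers
  let gen : Subgroup.zpowers σ := ⟨σ, Subgroup.mem_zpowers σ⟩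
  have hG : IsUnit ((Nat.card (Subgroup.zpowers σ) : ℕ) : Γ(S, ⊤)) := by
    rw [Nat.card_zpowers]
    have hdvd : orderOf σ ∣ 2 := orderOf_dvd_of_pow_eq_one ((pow_two σ).trans hσ2)
    rcases (Nat.dvd_prime Nat.prime_two).1 hdvd with h | h <;> rw [h]
    · rw [Nat.cast_one]; exact isUnit_one
    · exact_mod_cast h2
  have hu := GrothLib.QuotAvg9.isUnit_card_target hquot q hG
  -- the involution is non-trivial on every fibre
  have hne : ∀ s : S, bcAction hquot.inv (q.fiberι s) gen ≠ 1 := by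
    intro s hs
    have hq' : SGA1.IsQuot (bcAction hquot.inv (q.fiberι s)) (pullback.snd π (q.fiberι s)) :=
      GrothLib.QuotAvg9.isQuot_baseChange hu hquot (IsPullback.of_hasPullback π _)
        (fun g => pullback.lift_snd _ _ _) (fun g => pullback.lift_fst _ _ _)
    have htriv : ∀ a, bcAction hquot.inv (q.fiberι s) a = 1 := by
      rintro ⟨a, n, rfl⟩
      have : (⟨σ ^ n, n, rfl⟩ : Subgroup.zpowers σ) = gen ^ n := Subtype.ext (by simp [gen])
      rw [this, map_zpow, hs, one_zpow]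
    haveI := isIso_of_trivial hq' htriv
    have hbig : IsPullback (pullback.fst π (q.fiberι s))
        (pullback.snd π (q.fiberι s) ≫ q.fiberToSpecResidueField s) f (S.fromSpecResidueField s) :=
      hπ ▸ (IsPullback.of_hasPullback π (q.fiberι s)).paste_vert (IsPullback.of_hasPullback q _)
    have h1 := hgen s
    have h0 := hgenq s
    haveI : IsProper (q.fiberToSpecResidueField s) := MorphismProperty.pullback_snd _ _ ‹IsProper q›
    have := genus_of_iso (k := S.residueField s) (f.fiberToSpecResidueField s) (q.fiberToSpecResidueField s)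
      (hbig.isoPullback.symm ≪≫ asIso (pullback.snd π (q.fiberι s)))
      (by
        rw [Iso.trans_hom, Iso.symm_hom, Category.assoc, asIso_hom]
        exact hbig.isoPullback_inv_snd)
    omega
  have hfib : ∀ s : S, Function.Injective (bcAction hquot.inv (q.fiberι s)) := fun s => by
    refine (injective_iff_map_eq_one _).2 ?_
    rintro ⟨a, n, rfl⟩ ha
    have hgn : (⟨σ ^ n, n, rfl⟩ : Subgroup.zpowers σ) = gen ^ n := Subtype.ext (by simp [gen])
    rw [hgn, map_zpow] at ha
    have hsq : bcAction hquot.inv (q.fiberι s) gen ^ 2 = 1 := by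
      rw [← map_pow, show gen ^ 2 = 1 from Subtype.ext (by simp [gen, pow_two, hσ2]), map_one]
    have ho := orderOf_eq_prime (p := 2) hsq (hne s)
    have hdvd := orderOf_dvd_iff_zpow_eq_one.2 ha
    rw [ho] at hdvd
    obtain ⟨m, rfl⟩ := hdvd
    rw [hgn]
    have : gen ^ (2 : ℤ) = 1 := Subtype.ext (show σ ^ (2 : ℤ) = 1 by rw [zpow_two]; exact hσ2)
    rw [show ((2 : ℕ) : ℤ) = (2 : ℤ) from rfl, zpow_mul, this, one_zpow]
  obtain ⟨-, -, -, -, h1, h2', h3, h4⟩ := family_quotient f hdim hG q hπ hquot hfib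
  refine ⟨h1, h2', h3, fun y => ?_⟩
  have hσ1 : σ ≠ 1 := fun h => hne (q y) (by
    rw [show gen = 1 from Subtype.ext h, map_one])
  rw [h4 y, Nat.card_zpowers, orderOf_eq_prime ((pow_two σ).trans hσ2) hσ1]

end GrothLib.CurvQuot9
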