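import Groth.Agent.Lib.CurvQuot9.Scheme
import Groth.Agent.Lib.SGA1Quot21.BaseChange
import Groth.Agent.Lib.UnrMono.SmoothNormal
import Groth.Agent.Lib.UnramLoc9.SmoothBC
import Groth.Agent.Lib.GenericSmooth.Basic
import Groth.Agent.Lib.Euler.Rank
import Mathlib.AlgebraicGeometry.Geometrically.Connected
import Mathlib.AlgebraicGeometry.Morphisms.Proper

/-!
# Quotient of a smooth proper curve by a finite group
-/

set_option autoImplicit false
set_option linter.all false
set_option backward.isDefEq.respectTransparency false

universe u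

open CategoryTheory CategoryTheory.Limits AlgebraicGeometry TopologicalSpace

namespace GrothLib.CurvQuot9

variable {k : Type u} [Field k]

/-- The stalk of the spectrum of a field is that field. -/
noncomputable def specStalkEquiv (y : Spec (CommRingCat.of k)) :
    k ≃+* (Spec (CommRingCat.of k)).presheaf.stalk y :=
  letI : Algebra k ((Spec (CommRingCat.of k)).presheaf.stalk y) :=
    StructureSheaf.stalkAlgebra (R := k) y
  haveI : IsLocalization (PrimeSpectrum.asIdeal y).primeCompl ((Spec (CommRingCat.of k)).presheaf.stalk y) :=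
    StructureSheaf.IsLocalization.to_stalk (R := k) y
  (IsLocalization.atUnits k (PrimeSpectrum.asIdeal y).primeCompl fun z hz =>
      isUnit_iff_ne_zero.mpr fun h => hz (h ▸ (PrimeSpectrum.asIdeal y).zero_mem)).toRingEquiv

theorem isNormalScheme_of_smooth {Y : Scheme.{u}} (g : Y ⟶ Spec (CommRingCat.of k)) [Smooth g] :
    Pi1.IsNormalScheme Y := fun y => by
  haveI : IsDomain ((Spec (CommRingCat.of k)).presheaf.stalk (g y)) :=
    (specStalkEquiv (g y)).toMulEquiv.isDomain_iff.1 inferInstance
  haveI : IsIntegrallyClosed ((Spec (CommRingCat.of k)).presheaf.stalk (g y)) :=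
    IsIntegrallyClosed.of_equiv (specStalkEquiv (g y))
  exact GrothLib.UnrMono.isNormal_stalk_of_smooth g y

/-- A normal scheme of dimension at most one, locally of finite type over an algebraically closed field,
is smooth. -/
theorem smooth_of_normal_curve [IsAlgClosed k] {Y : Scheme.{u}} (g : Y ⟶ Spec (CommRingCat.of k))
    [LocallyOfFiniteType g] (hY : Pi1.IsNormalScheme Y) (hdim : topologicalKrullDim Y ≤ 1) : Smooth g := by
  haveI : LocallyOfFinitePresentation g := LocallyOfFinitePresentation.iff_locallyOfFiniteType.2 ‹_›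
  haveI : IsLocallyNoetherian Y := LocallyOfFiniteType.isLocallyNoetherian g
  rw [← Scheme.Hom.smoothLocus_eq_top_iff]
  refine Opens.ext (Set.eq_univ_of_forall fun y => ?_)
  obtain ⟨_, _⟩ := hY y
  haveI : IsRegularLocalRing (Y.presheaf.stalk y) := by
    refine GrothLib.NormalSerre.isRegularLocalRing_of_isIntegrallyClosed ?_
    have h1 : ringKrullDim (Y.presheaf.stalk y) ≤ 1 := by
      refine le_trans ?_ hdim
      rw [← PrimeSpectrum.topologicalKrullDim_eq_ringKrullDim]
      exact (Y.fromSpecStalk y).isEmbedding.isInducing.topologicalKrullDim_le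
    rw [← IsLocalRing.maximalIdeal_height_eq_ringKrullDim] at h1
    exact_mod_cast h1
  have hf : IsField ((Spec (CommRingCat.of k)).presheaf.stalk (g y)) :=
    (specStalkEquiv (g y)).symm.toMulEquiv.isField (Field.toIsField k)
  refine GrothLib.GenericSmooth.mem_smoothLocus_of_regular g y hf ?_
  letI := hf.toField
  haveI : IsAlgClosed ((Spec (CommRingCat.of k)).presheaf.stalk (g y)) :=
    IsAlgClosed.of_ringEquiv k _ (specStalkEquiv (g y))
  infer_instance

section

variable {X Y : Scheme.{u}} {p : X ⟶ Spec (CommRingCat.of k)} {G : Type u} [Group G] {ρ : G →* Aut X}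
  (hρk : ∀ g : G, (ρ g).hom ≫ p = p) {π : X ⟶ Y}
  (hinv : ∀ g : G, (ρ g).hom ≫ π = π) {Y' : Scheme.{u}} (qY : Y' ⟶ Y)

/-- The base change of an action over the quotient. -/
noncomputable def bcAction : G →* Aut (pullback π qY) where
  toFun g :=
    { hom := pullback.lift (pullback.fst π qY ≫ (ρ g).hom) (pullback.snd π qY)
        (by rw [Category.assoc, hinv, pullback.condition])
      inv := pullback.lift (pullback.fst π qY ≫ (ρ g).inv) (pullback.snd π qY)
        (by rw [Category.assoc, (Iso.inv_comp_eq (ρ g)).2 (hinv g).symm, pullback.condition])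
      hom_inv_id := by
        apply pullback.hom_ext <;> simp
      inv_hom_id := by
        apply pullback.hom_ext <;> simp }
  map_one' := by
    ext : 1
    show pullback.lift _ _ _ = 𝟙 (pullback π qY)
    apply pullback.hom_ext
    · rw [pullback.lift_fst, GrothLib.SGA1Quot21.rho_one, Category.comp_id, Category.id_comp]
    · rw [pullback.lift_snd, Category.id_comp]
  map_mul' g h := by
    ext : 1
    show pullback.lift _ _ _ = pullback.lift _ _ _ ≫ pullback.lift _ _ _
    apply pullback.hom_ext
    · rw [pullback.lift_fst, GrothLib.SGA1Quot21.rho_mul, Category.assoc, pullback.lift_fst,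
        pullback.lift_fst_assoc, Category.assoc]
    · rw [pullback.lift_snd, Category.assoc, pullback.lift_snd, pullback.lift_snd]

end

theorem quotient_curve {X Y : Scheme.{u}} (p : X ⟶ Spec (CommRingCat.of k)) [IsProper p] [Smooth p]
    [GeometricallyConnected p] (hX : topologicalKrullDim ↥X = 1)
    {G : Type u} [Group G] [Finite G] (ρ : G →* Aut X) (hρ : Function.Injective ρ)
    (hρk : ∀ g : G, (ρ g).hom ≫ p = p) (π : X ⟶ Y) (q : Y ⟶ Spec (CommRingCat.of k)) (hπ : π ≫ q = p)
    (hquot : SGA1.IsQuot ρ π) :
    IsProper q ∧ Smooth q ∧ GeometricallyConnected q ∧ topologicalKrullDim ↥Y = 1 ∧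
      IsFinite π ∧ Flat π ∧ ∀ y : Y, π.finrank y = Nat.card G := by
  haveI : ConnectedSpace X := GeometricallyConnected.connectedSpace_of_subsingleton (f := p)
  haveI : IsIntegral X := GrothLib.Euler.isIntegral_of_smooth_connected k p
  haveI := hquot.affine
  haveI : LocallyOfFiniteType (π ≫ q) := by rw [hπ]; infer_instance
  haveI : QuasiCompact (π ≫ q) := by rw [hπ]; infer_instance
  haveI : IsSeparated (π ≫ q) := by rw [hπ]; infer_instance
  haveI : UniversallyClosed (π ≫ q) := by rw [hπ]; infer_instance
  haveI : Surjective π := ⟨GrothLib.SGA1Quot21.surjective hquot⟩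
  haveI : IsFinite π := GrothLib.SGA1Quot21.isFinite_of_locallyOfFiniteType hquot q
  haveI : LocallyOfFiniteType q := GrothLib.SGA1Quot21.locallyOfFiniteType_of_comp_quot hquot q
  haveI : QuasiCompact q := GrothLib.SGA1Quot21.quasiCompact_of_comp hquot q
  haveI : IsSeparated q := GrothLib.SGA1Quot21.isSeparated_of_comp hquot q
  haveI : UniversallyClosed q := UniversallyClosed.of_comp_surjective π q
  haveI hproper : IsProper q := { }
  haveI : IsIntegral Y := isIntegral hquot
  haveI : IsLocallyNoetherian Y := LocallyOfFiniteType.isLocallyNoetherian q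
  have hdim : topologicalKrullDim ↥Y = 1 := (dim_eq hquot).trans hX
  haveI : X.IsSeparated := by
    refine ⟨?_⟩
    rw [← terminal.comp_from p]
    infer_instance
  obtain ⟨hflat, hrank⟩ := flat_and_finrank hquot hρ (isNormalScheme_of_smooth p) hdim.le
  have hgc : GeometricallyConnected q := by
    refine ⟨fun K _ y Z fst snd hZ => ?_⟩
    let Z' := pullback π fst
    have hbig : IsPullback (pullback.fst π fst) (pullback.snd π fst ≫ snd) p y :=
      hπ ▸ (IsPullback.of_hasPullback π fst).paste_vert hZ
    haveI : ConnectedSpace Z' := GeometricallyConnected.geometrically_connectedSpace _ _ _ hbig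
    exact Function.Surjective.connectedSpace (pullback.snd π fst).surjective (pullback.snd π fst).continuous
  refine ⟨hproper, ?_, hgc, hdim, inferInstance, hflat, hrank⟩
  haveI : Flat q := by infer_instance
  haveI : LocallyOfFinitePresentation q := LocallyOfFinitePresentation.iff_locallyOfFiniteType.2 ‹_›
  -- base change to the algebraic closure
  let K := AlgebraicClosure k
  let b : Spec (CommRingCat.of K) ⟶ Spec (CommRingCat.of k) := Spec.map (CommRingCat.ofHom (algebraMap k K))
  haveI : Flat b := Flat.SpecMap_iff.2 (RingHom.flat_algebraMap_iff.2 inferInstance)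
  let qY := pullback.fst q b
  let bY := pullback.snd q b
  let pX := pullback.fst π qY
  let π' := pullback.snd π qY
  have hquot' : SGA1.IsQuot (bcAction hquot.inv qY) π' :=
    GrothLib.SGA1Quot21.isQuot_baseChange hquot (IsPullback.of_hasPullback π qY)
      (fun g => pullback.lift_snd _ _ _) (fun g => pullback.lift_fst _ _ _)
  have hbig : IsPullback pX (π' ≫ bY) p b :=
    hπ ▸ (IsPullback.of_hasPullback π qY).paste_vert (IsPullback.of_hasPullback q b)
  haveI : Smooth (π' ≫ bY) := MorphismProperty.of_isPullback hbig ‹Smooth p›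
  haveI : IsProper (π' ≫ bY) := MorphismProperty.of_isPullback hbig ‹IsProper p›
  haveI : GeometricallyConnected (π' ≫ bY) := MorphismProperty.of_isPullback hbig ‹GeometricallyConnected p›
  haveI : ConnectedSpace ↥(pullback π qY) := GeometricallyConnected.connectedSpace_of_subsingleton (f := π' ≫ bY)
  haveI : IsIntegral (pullback π qY) := GrothLib.Euler.isIntegral_of_smooth_connected K (π' ≫ bY)
  haveI : IsIntegral (pullback q b) := isIntegral hquot'
  haveI : IsIntegralHom qY := MorphismProperty.pullback_fst _ _ ((IsIntegralHom.SpecMap_iff).2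
    (algebraMap_isIntegral_iff.2 inferInstance))
  have hsm : Smooth bY := smooth_of_normal_curve bY (isNormal hquot' (isNormalScheme_of_smooth (π' ≫ bY)))
    ((GrothLib.AlgSp.topologicalKrullDim_le_of_isIntegralHom qY).trans hdim.le)
  rw [← Scheme.Hom.smoothLocus_eq_top_iff]
  refine Opens.ext (Set.eq_univ_of_forall fun y => ?_)
  haveI : Surjective b := ⟨fun z => ⟨Nonempty.some inferInstance, Subsingleton.elim (α := PrimeSpectrum k) _ _⟩⟩
  haveI : Surjective (pullback.fst q b) := inferInstance
  obtain ⟨y', hy'⟩ := (pullback.fst q b).surjective y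
  obtain ⟨U, hU, hUs⟩ := GrothLib.UnramLoc9.smooth_nhd_of_baseChange_of_flat q b y'
    ⟨⊤, trivial, inferInstance⟩
  rw [hy'] at hU
  exact (GrothLib.LocProp.smooth_nhd_iff q y).1 ⟨U, hU, hUs⟩

end GrothLib.CurvQuot9
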