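import Mathlib.RingTheory.IsGaloisGroup.Basic
import Mathlib.FieldTheory.Galois.IsGaloisGroup
import Mathlib.RingTheory.IntegralClosure.IntegrallyClosed
import Mathlib.RingTheory.Flat.TorsionFree
import Mathlib.RingTheory.Spectrum.Prime.FreeLocus

/-!
# Invariants of a finite group acting on a domain

* `isIntegrallyClosed_of_isInvariant`: invariants of an integrally closed domain are integrally closed.
* `rankAtStalk_eq_card`: for a faithful action and `A ⊆ B` finite flat, the rank is the order of the group.
-/

set_option autoImplicit false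
set_option linter.all false

universe u

namespace GrothLib.CurvQuot9

variable (G A B : Type u) [Group G] [CommRing A] [CommRing B] [IsDomain A] [IsDomain B] [Algebra A B]
  [MulSemiringAction G B] [SMulCommClass G A B] [Algebra.IsInvariant A B G] [FaithfulSMul A B]

include G in
theorem isIntegrallyClosed_of_isInvariant [IsIntegrallyClosed B] : IsIntegrallyClosed A := by
  refine (isIntegrallyClosed_iff (FractionRing A)).2 fun {x} hx => ?_
  obtain ⟨a, c, hc, rfl⟩ := IsFractionRing.div_surjective A x
  have hc0 : algebraMap A B c ≠ 0 := fun h =>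
    nonZeroDivisors.ne_zero hc (FaithfulSMul.algebraMap_injective A B (h.trans (map_zero _).symm))
  let ψ : FractionRing A →+* FractionRing B :=
    IsFractionRing.map (A := A) (B := B) (j := algebraMap A B) (FaithfulSMul.algebraMap_injective A B)
  have hψ : ∀ r, ψ (algebraMap A (FractionRing A) r) = algebraMap B (FractionRing B) (algebraMap A B r) :=
    fun r => IsLocalization.map_eq _ r
  have hint : IsIntegral B (ψ (algebraMap A (FractionRing A) a / algebraMap A (FractionRing A) c)) := by
    obtain ⟨P, hP, hP0⟩ := hx
    refine ⟨P.map (algebraMap A B), hP.map _, ?_⟩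
    have h := congrArg ψ hP0
    rw [map_zero, Polynomial.hom_eval₂] at h
    rw [Polynomial.eval₂_map, ← h]
    refine congrArg (fun e => Polynomial.eval₂ e _ P) ?_
    ext r
    exact (hψ r).symm
  obtain ⟨b, hb⟩ := IsIntegrallyClosed.algebraMap_eq_of_integral hint
  rw [map_div₀, hψ, hψ, eq_div_iff ((map_ne_zero_iff _ (IsFractionRing.injective B (FractionRing B))).2 hc0),
    ← map_mul, (IsFractionRing.injective B (FractionRing B)).eq_iff] at hb
  have hinv : ∀ g : G, g • b = b := fun g => by
    refine mul_right_cancel₀ hc0 ?_
    have h1 := congrArg (fun t => g • t) hb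
    simp only [smul_mul', smul_algebraMap] at h1
    rw [h1, hb]
  obtain ⟨a', ha'⟩ := Algebra.IsInvariant.isInvariant (A := A) b hinv
  refine ⟨a', ?_⟩
  rw [eq_div_iff ((map_ne_zero_iff _ (IsFractionRing.injective A (FractionRing A))).2 (nonZeroDivisors.ne_zero hc)),
    ← map_mul]
  exact congrArg _ (FaithfulSMul.algebraMap_injective A B (by rw [map_mul, ha', hb]))

theorem rankAtStalk_eq_card [Finite G] [FaithfulSMul G B] [Module.Finite A B] [Module.Flat A B]
    (p : PrimeSpectrum A) : Module.rankAtStalk (R := A) B p = Nat.card G := by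
  haveI : IsGaloisGroup G A B := ⟨inferInstance, inferInstance, inferInstance⟩
  have h0 : Module.rankAtStalk (R := A) B (⟨⊥, Ideal.isPrime_bot⟩ : PrimeSpectrum A) =
      Module.rankAtStalk (R := A) B p :=
    Module.rankAtStalk_eq_of_le_of_finite_of_flat B bot_le
  rw [← h0, IsGaloisGroup.card_eq_finrank' G A B, Module.rankAtStalk]
  haveI : FaithfulSMul A (Localization.AtPrime (⊥ : Ideal A)) :=
    (faithfulSMul_iff_algebraMap_injective _ _).2
      (IsLocalization.injective _ (Ideal.primeCompl_le_nonZeroDivisors (⊥ : Ideal A)))
  exact (IsLocalizedModule.isBaseChange (⊥ : Ideal A).primeCompl (Localization.AtPrime (⊥ : Ideal A))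
    (LocalizedModule.mkLinearMap (⊥ : Ideal A).primeCompl B)).finrank_eq

end GrothLib.CurvQuot9
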