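import Groth.Agent.Lib.CurvQuot9.Ring
import Groth.Agent.Lib.SGA1Quot21.Points
import Groth.Agent.Lib.SGA1Quot21.Descend
import Groth.Agent.Lib.NormalSerre.Serre
import Groth.Agent.Lib.AlgSp.Dim
import Groth.Agent.Lib.NormNormal9.Basic
import Groth.Prelude.Def_Pi1

/-!
# Quotient of an integral scheme by a finite group

* `isIntegral`, `isNormal`: the quotient of an integral (normal) scheme is integral (normal).
* `dim_eq`: same dimension.
* `flat_and_finrank`: for a faithful action on a normal scheme of dimension at most one, with finite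
  quotient morphism, the quotient morphism is flat of rank the order of the group.
-/

set_option autoImplicit false
set_option linter.all false
set_option backward.isDefEq.respectTransparency false

universe u

open CategoryTheory CategoryTheory.Limits AlgebraicGeometry TopologicalSpace

namespace GrothLib.CurvQuot9

open GrothLib.SGA1Quot21

variable {X Y : Scheme.{u}} {G : Type u} [Group G] [Finite G] {ρ : G →* Aut X} {p : X ⟶ Y}
  (hp : SGA1.IsQuot ρ p) [IsIntegral X]

include hp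

theorem isIntegral : IsIntegral Y := by
  haveI : IsReduced Y := ⟨fun U => isReduced_of_injective (p.app U).hom (hp.injective U)⟩
  have hs := GrothLib.SGA1Quot21.surjective hp
  haveI : Nonempty Y := ⟨p (Nonempty.some inferInstance)⟩
  haveI : IrreducibleSpace Y :=
    { toPreirreducibleSpace := ⟨by
        have := (PreirreducibleSpace.isPreirreducible_univ (X := X)).image p p.continuous.continuousOn
        rwa [Set.image_univ, hs.range_eq] at this⟩
      toNonempty := inferInstance }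
  exact isIntegral_of_irreducibleSpace_of_isReduced Y

theorem isNormal [IsIntegral Y] (hX : Pi1.IsNormalScheme X) : Pi1.IsNormalScheme Y := by
  intro z
  refine ⟨inferInstance, ?_⟩
  obtain ⟨V, hV, hzV, -⟩ := exists_isAffineOpen_mem_and_subset (show z ∈ (⊤ : Y.Opens) from trivial)
  haveI : Nonempty V := ⟨⟨z, hzV⟩⟩
  haveI : IsIntegrallyClosed Γ(Y, V) := by
    haveI : Nonempty (p ⁻¹ᵁ V : X.Opens) := by
      obtain ⟨x, hx⟩ := GrothLib.SGA1Quot21.surjective hp z
      exact ⟨⟨x, show p x ∈ V by rw [hx]; exact hzV⟩⟩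
    haveI := GrothLib.NormNormal9.isIntegrallyClosed_sections hX (p ⁻¹ᵁ V)
    letI := (p.app V).hom.toAlgebra
    letI := sectionsAction ρ p hp.inv V
    haveI := sections_isInvariant hp V
    haveI := sections_smulComm ρ p hp.inv V
    haveI := sections_faithful hp V
    exact isIntegrallyClosed_of_isInvariant G Γ(Y, V) Γ(X, p ⁻¹ᵁ V)
  letI := TopCat.Presheaf.algebra_section_stalk Y.presheaf (⟨z, hzV⟩ : V)
  have := hV.isLocalization_stalk ⟨z, hzV⟩
  exact isIntegrallyClosed_of_isLocalization (Y.presheaf.stalk z)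
    (hV.primeIdealOf ⟨z, hzV⟩).asIdeal.primeCompl (hV.primeIdealOf ⟨z, hzV⟩).asIdeal.primeCompl_le_nonZeroDivisors

theorem dim_eq : topologicalKrullDim Y = topologicalKrullDim X := by
  haveI := GrothLib.SGA1Quot21.isIntegralHom hp
  haveI : Surjective p := ⟨GrothLib.SGA1Quot21.surjective hp⟩
  exact le_antisymm (GrothLib.AlgSp.topologicalKrullDim_le_of_isIntegralHom_surjective p)
    (GrothLib.AlgSp.topologicalKrullDim_le_of_isIntegralHom p)

/-- A non-trivial group element acts non-trivially on the sections over every non-empty affine preimage. -/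
theorem act_ne [X.IsSeparated] (hρ : Function.Injective ρ) {V : Y.Opens} (hV : IsAffineOpen (p ⁻¹ᵁ V))
    [Nonempty (p ⁻¹ᵁ V : X.Opens)] {g : G} (h : ∀ a, (act ρ p hp.inv V g).hom a = a) : g = 1 := by
  apply hρ
  rw [map_one]
  refine Iso.ext ?_
  show (ρ g).hom = 𝟙 X
  have he : act ρ p hp.inv V g = 𝟙 _ := CommRingCat.hom_ext (RingHom.ext h)
  have h1 := SpecMap_act_fromSpec (ρ := ρ) hp.inv hV g
  rw [he, Spec.map_id, Category.id_comp] at h1
  haveI : IsDominant hV.fromSpec := by
    refine ⟨?_⟩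
    show Dense (Set.range hV.fromSpec)
    rw [hV.range_fromSpec]
    exact IsOpen.dense (p ⁻¹ᵁ V).2 (by
      obtain ⟨x⟩ := (inferInstance : Nonempty (p ⁻¹ᵁ V : X.Opens))
      exact ⟨x.1, x.2⟩)
  exact ext_of_isDominant hV.fromSpec (by rw [Category.comp_id]; exact h1.symm)

theorem flat_and_finrank [IsIntegral Y] [IsFinite p] [X.IsSeparated] [IsLocallyNoetherian Y]
    (hρ : Function.Injective ρ) (hX : Pi1.IsNormalScheme X) (hdim : topologicalKrullDim Y ≤ 1) :
    Flat p ∧ ∀ y : Y, p.finrank y = Nat.card G := by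
  have main : ∀ V : Y.Opens, IsAffineOpen V → (Nonempty V) →
      (p.app V).hom.Flat ∧ ∀ P, (p.app V).hom.finrank P = Nat.card G := by
    intro V hV hne
    haveI := hne
    haveI : Nonempty (p ⁻¹ᵁ V : X.Opens) := by
      obtain ⟨⟨z, hz⟩⟩ := hne
      obtain ⟨x, hx⟩ := GrothLib.SGA1Quot21.surjective hp z
      exact ⟨⟨x, show p x ∈ V by rw [hx]; exact hz⟩⟩
    letI := (p.app V).hom.toAlgebra
    letI := sectionsAction ρ p hp.inv V
    haveI := sections_isInvariant hp V
    haveI := sections_smulComm ρ p hp.inv V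
    haveI := sections_faithful hp V
    haveI : IsIntegrallyClosed Γ(Y, V) := GrothLib.NormNormal9.isIntegrallyClosed_sections (isNormal hp hX) V
    haveI : IsNoetherianRing Γ(Y, V) := IsLocallyNoetherian.component_noetherian ⟨V, hV⟩
    have hdimA : ringKrullDim Γ(Y, V) ≤ 1 := by
      rw [← PrimeSpectrum.topologicalKrullDim_eq_ringKrullDim]
      exact (hV.fromSpec.isEmbedding.isInducing.topologicalKrullDim_le).trans hdim
    haveI : Ring.KrullDimLE 1 Γ(Y, V) := Ring.krullDimLE_iff.2 hdimA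
    haveI : Ring.DimensionLEOne Γ(Y, V) := ⟨fun {P} hP hPp =>
      Ring.krullDimLE_one_iff_of_noZeroDivisors.1 inferInstance P hP hPp⟩
    haveI : IsDedekindRing Γ(Y, V) := { }
    haveI : IsDedekindDomain Γ(Y, V) := { }
    haveI : Module.Finite Γ(Y, V) Γ(X, p ⁻¹ᵁ V) := p.finite_app V hV
    haveI : Module.IsTorsionFree Γ(Y, V) Γ(X, p ⁻¹ᵁ V) :=
      ⟨fun r hr => by
        intro a b hab
        simp only [Algebra.smul_def] at hab
        exact mul_left_cancel₀ ((map_ne_zero_iff _ (FaithfulSMul.algebraMap_injective _ _)).2 hr.ne_zero) hab⟩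
    haveI : Module.Flat Γ(Y, V) Γ(X, p ⁻¹ᵁ V) := inferInstance
    haveI : FaithfulSMul G Γ(X, p ⁻¹ᵁ V) := ⟨fun {g₁ g₂} hg => by
      have hk : ∀ a : Γ(X, p ⁻¹ᵁ V), (g₁⁻¹ * g₂) • a = a := fun a => by rw [mul_smul, ← hg a, inv_smul_smul]
      have h1 : (g₁⁻¹ * g₂)⁻¹ = 1 := act_ne hp hρ (hV.preimage p) fun a => hk a
      exact eq_of_inv_mul_eq_one (inv_eq_one.1 h1)⟩
    refine ⟨‹Module.Flat Γ(Y, V) Γ(X, p ⁻¹ᵁ V)›, fun P => ?_⟩
    exact (congrFun (RingHom.finrank_algebraMap (R := Γ(Y, V)) (S := Γ(X, p ⁻¹ᵁ V))) P).trans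
      (rankAtStalk_eq_card G Γ(Y, V) Γ(X, p ⁻¹ᵁ V) P)
  haveI := hp.affine
  have hnat : ∀ (V : Y.Opens) (hV : IsAffineOpen V),
      p ∣_ V ≫ hV.isoSpec.hom = (hV.preimage p).isoSpec.hom ≫ Spec.map (p.app V) := fun V hV => by
    rw [IsAffineOpen.isoSpec_hom, IsAffineOpen.isoSpec_hom, Scheme.Opens.toSpecΓ_naturality]
  have hflat : Flat p := by
    refine (IsZariskiLocalAtTarget.iff_of_iSup_eq_top (P := @Flat)
      (fun V : Y.affineOpens => V.1) (iSup_affineOpens_eq_top Y)).2 fun V => ?_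
    rw [← MorphismProperty.cancel_right_of_respectsIso @Flat (p ∣_ V.1) V.2.isoSpec.hom, hnat V.1 V.2,
      MorphismProperty.cancel_left_of_respectsIso @Flat, Flat.SpecMap_iff]
    by_cases hne : Nonempty V.1
    · exact (main V.1 V.2 hne).1
    · have hb : V.1 = ⊥ := Opens.ext (Set.eq_empty_iff_forall_notMem.2 fun t ht => hne ⟨⟨t, ht⟩⟩)
      haveI : Subsingleton Γ(Y, V.1) := by rw [hb]; infer_instance
      letI := (p.app V.1).hom.toAlgebra
      haveI := Module.subsingleton Γ(Y, V.1) Γ(X, p ⁻¹ᵁ V.1)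
      show Module.Flat Γ(Y, V.1) Γ(X, p ⁻¹ᵁ V.1)
      haveI : Module.Free Γ(Y, V.1) Γ(X, p ⁻¹ᵁ V.1) := Module.Free.of_subsingleton _ _
      infer_instance
  refine ⟨hflat, fun y => ?_⟩
  obtain ⟨V, hV, hyV, -⟩ := exists_isAffineOpen_mem_and_subset (show y ∈ (⊤ : Y.Opens) from trivial)
  have hsq : IsPullback (hV.preimage p).fromSpec (Spec.map (p.app V)) p hV.fromSpec := by
    refine IsPullback.of_iso ((isPullback_morphismRestrict p V).flip) ((hV.preimage p).isoSpec) (Iso.refl _)
      hV.isoSpec (Iso.refl _) ?_ ?_ ?_ ?_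
    · rw [Iso.refl_hom, Category.comp_id, IsAffineOpen.fromSpec, Iso.hom_inv_id_assoc]
    · exact hnat V hV
    · simp
    · rw [Iso.refl_hom, Category.comp_id, IsAffineOpen.fromSpec, Iso.hom_inv_id_assoc]
  obtain ⟨P, hP⟩ : y ∈ Set.range hV.fromSpec := by rw [hV.range_fromSpec]; exact hyV
  haveI := hflat
  rw [← hP, ← Scheme.Hom.finrank_of_isPullback _ _ p hV.fromSpec hsq P,
    Scheme.Hom.finrank_SpecMap_eq_finrank (p.finite_app V hV) (main V hV ⟨⟨y, hyV⟩⟩).1]
  exact (main V hV ⟨⟨y, hyV⟩⟩).2 P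

end GrothLib.CurvQuot9
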